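import Groth.Agent.ProjUPX.Unique
import Groth.Agent.QCoh.LocFree
import Groth.Agent.QCoh.PullbackBC
import Groth.Agent.H23.PullPush
import Groth.Prelude.Def_ProjUP
import Groth.Agent.Proj16.ConeData

/-!
# Invertible sheaves on an affine scheme and their generators
-/

universe u

open CategoryTheory AlgebraicGeometry TopologicalSpace

set_option backward.isDefEq.respectTransparency false
set_option backward.isDefEq.respectTransparency.types false
set_option linter.style.haveILetI false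

namespace Groth.Agent.ProjUPX

lemma exists_notMem_of_adjoin {R A : Type u} [CommRing R] [CommRing A] [Algebra R A]
    (𝒜 : ℕ → Submodule R A) [GradedAlgebra 𝒜] {κ : Type*} {T : κ → A} (hT : ∀ i, T i ∈ 𝒜 1)
    (hgen : Algebra.adjoin R (Set.range T) = ⊤) (y : Proj 𝒜) : ∃ i, y ∈ Proj.basicOpen 𝒜 (T i) := by
  by_contra! h
  obtain ⟨d, f, hd, hf, hfy⟩ := Proj16.exists_homogeneous_notMem 𝒜
    (I := y.asHomogeneousIdeal.toIdeal) y.not_irrelevant_le
  obtain ⟨p, hp, rfl⟩ := exists_homogeneous_preimage 𝒜 hT hgen hf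
  refine hfy ?_
  rw [MvPolynomial.aeval_def, MvPolynomial.eval₂_eq]
  refine Ideal.sum_mem _ fun e he => Ideal.mul_mem_left _ _ ?_
  obtain ⟨k, hk⟩ : e.support.Nonempty := by
    rw [Finsupp.support_nonempty_iff]
    rintro rfl
    have := hp (MvPolynomial.mem_support_iff.mp he)
    simp at this
    omega
  refine Ideal.prod_mem _ hk ?_
  exact Ideal.pow_mem_of_mem _ (not_not.1 (h k)) _ (Nat.pos_of_ne_zero (Finsupp.mem_support_iff.1 hk))

variable {X : Scheme.{u}}

lemma germ_mem_span_frame {L : X.Modules} {U : X.Opens} {e : Γ(L, U)} (he : InvX.IsFrame e) {x : X}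
    (hx : x ∈ U) (y : L.presheaf.stalk x) :
    y ∈ Submodule.span (X.presheaf.stalk x) {(L.presheaf.germ U x hx).hom e} := by
  obtain ⟨W, hxW, m, rfl⟩ := TopCat.Presheaf.exists_germ_eq L.presheaf y
  obtain ⟨g, hg⟩ := he.exists_coord (inf_le_right : W ⊓ U ≤ U) (AModX.res L inf_le_left m)
  refine Submodule.mem_span_singleton.2 ⟨X.presheaf.germ (W ⊓ U) x ⟨hxW, hx⟩ g, ?_⟩
  refine Eq.trans ?_ (L.presheaf.germ_res_apply (homOfLE inf_le_left) x ⟨hxW, hx⟩ m)
  rw [show (L.presheaf.map (homOfLE (inf_le_left : W ⊓ U ≤ W)).op) m = AModX.res L inf_le_left m from rfl, hg,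
    QCoh.germ_smul']
  exact congrArg (_ • ·) (L.presheaf.germ_res_apply (homOfLE inf_le_right) x ⟨hxW, hx⟩ e).symm

lemma generatedBy_of_frames {L : X.Modules} {κ : Type*} (s : κ → Γ(L, ⊤))
    (h : ∀ x : X, ∃ (i : κ) (U : X.Opens) (_ : x ∈ U), InvX.IsFrame (AModX.res L (le_top : U ≤ ⊤) (s i))) :
    ProjUP.GeneratedBy L s := fun x => by
  obtain ⟨i, U, hx, hU⟩ := h x
  refine eq_top_iff.2 fun y _ => ?_
  refine Submodule.span_le.2 (Set.singleton_subset_iff.2 ?_) (germ_mem_span_frame hU hx y)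
  refine Submodule.subset_span ⟨i, ?_⟩
  exact (L.presheaf.germ_res_apply (homOfLE le_top) x hx (s i)).symm

lemma generatedBy_pullG {R A : Type u} [CommRing R] [CommRing A] [Algebra R A] {𝒜 : ℕ → Submodule R A}
    [GradedAlgebra 𝒜] (r : X ⟶ Proj 𝒜) {κ : Type*} {T : κ → A} (hT : ∀ i, T i ∈ 𝒜 1)
    (covT : ∀ y : Proj 𝒜, ∃ i, y ∈ Proj.basicOpen 𝒜 (T i)) :
    ProjUP.GeneratedBy ((Scheme.Modules.pullback r).obj (Twist.twist 𝒜 1)) fun i => pullG r (hT i) :=
  generatedBy_of_frames _ fun x => by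
    obtain ⟨i, hi⟩ := covT (r x)
    exact ⟨i, r ⁻¹ᵁ Proj.basicOpen 𝒜 (T i), hi, isFrame_pullG r (hT i)⟩

lemma isQCoh_of_isInvertible {L : X.Modules} (hL : PicF.IsInvertible L) : Coh.IsQCoh L :=
  QCoh.isQCoh_of_isFinLocFree (H23.PullPush.isFinLocFree_of_isInvertible hL)

lemma finrank_stalk_of_isInvertible {L : X.Modules} (hL : PicF.IsInvertible L) (x : X) :
    Module.finrank (X.presheaf.stalk x) (L.presheaf.stalk x) = 1 := by
  obtain ⟨U, hxU, ⟨e⟩⟩ := hL x
  obtain ⟨_, ⟨V, hV, rfl⟩, hxV, hle⟩ :=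
    X.isBasis_affineOpens.exists_subset_of_mem_open (show x ∈ U from hxU) U.2
  have hV' : IsAffineOpen V := hV
  obtain ⟨l⟩ := QCoh.free_sections hV' hle
    (e ≪≫ (Limits.coproductUniqueIso fun _ : Fin 1 => Coh.structureModule (↑U)).symm)
  exact QCoh.finrank_stalk_of_freeChart hV' (isQCoh_of_isInvertible hL) l hxV

lemma isInvertible_of_isFinLocFree {L : X.Modules} (hL : FlatMod.IsFinLocFree L)
    (h1 : ∀ x : X, Module.finrank (X.presheaf.stalk x) (L.presheaf.stalk x) = 1) :
    PicF.IsInvertible L := fun x => by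
  obtain ⟨U, n, hxU, ⟨e⟩⟩ := hL x
  obtain ⟨_, ⟨V, hV, rfl⟩, hxV, hle⟩ :=
    X.isBasis_affineOpens.exists_subset_of_mem_open (show x ∈ U from hxU) U.2
  have hV' : IsAffineOpen V := hV
  obtain ⟨l⟩ := QCoh.free_sections hV' hle e
  have hn : n = 1 := (QCoh.finrank_stalk_of_freeChart hV' (QCoh.isQCoh_of_isFinLocFree hL) l hxV).symm.trans (h1 x)
  subst hn
  exact ⟨U, hxU, ⟨e ≪≫ Limits.coproductUniqueIso fun _ : Fin 1 => Coh.structureModule (↑U)⟩⟩

/-- Generators of a quasi-coherent module on an affine scheme span the global sections. -/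
lemma span_eq_top_of_generatedBy [IsAffine X] {L : X.Modules} (hq : Coh.IsQCoh L) {κ : Type*}
    (s : κ → Γ(L, ⊤)) (hs : ProjUP.GeneratedBy L s) : Submodule.span Γ(X, ⊤) (Set.range s) = ⊤ := by
  have hU := isAffineOpen_top X
  refine eq_top_iff.2 fun m _ => ?_
  by_contra hm
  let I : Ideal Γ(X, ⊤) := (Submodule.span Γ(X, ⊤) (Set.range s)).comap (LinearMap.toSpanSingleton Γ(X, ⊤) _ m)
  have hI : I ≠ ⊤ := fun h => hm (by
    have : (1 : Γ(X, ⊤)) ∈ I := h ▸ trivial
    simpa [I] using this)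
  obtain ⟨P, hP, hIP⟩ := I.exists_le_maximal hI
  obtain ⟨x, hx, hxP⟩ := QCoh.exists_point hU ⟨P, hP.isPrime⟩
  letI := QCoh.stalkAlg (X := X) (U := ⊤) hx
  letI := QCoh.stalkModule L hx
  haveI := QCoh.isScalarTower_stalk L hx
  haveI := QCoh.isLocalization_stalk' hU hx
  haveI := QCoh.isLocalizedModule_germLin hq hU hx
  have h1 : Submodule.localized' (X.presheaf.stalk x) (hU.primeIdealOf ⟨x, hx⟩).asIdeal.primeCompl
      (QCoh.germLin L hx) (Submodule.span Γ(X, ⊤) (Set.range s)) = ⊤ := by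
    rw [Submodule.localized'_span, ← Set.range_comp]
    exact hs x
  have h2 : QCoh.germLin L hx m ∈ Submodule.localized' (X.presheaf.stalk x)
      (hU.primeIdealOf ⟨x, hx⟩).asIdeal.primeCompl (QCoh.germLin L hx) (Submodule.span Γ(X, ⊤) (Set.range s)) :=
    h1 ▸ trivial
  obtain ⟨y, hy, ⟨t, ht⟩, hyt⟩ := h2
  rw [IsLocalizedModule.mk'_eq_iff] at hyt
  obtain ⟨⟨c, hc⟩, hcy⟩ := IsLocalizedModule.exists_of_eq (S := (hU.primeIdealOf ⟨x, hx⟩).asIdeal.primeCompl)
    (f := QCoh.germLin L hx) (show QCoh.germLin L hx y = QCoh.germLin L hx (t • m) by rw [map_smul]; exact hyt)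
  have hmem : c * t ∈ I := by
    show (c * t) • m ∈ Submodule.span Γ(X, ⊤) (Set.range s)
    rw [mul_smul]
    exact hcy ▸ Submodule.smul_mem _ c hy
  have := hIP hmem
  rw [hxP] at hc ht
  exact (hP.isPrime.mem_or_mem this).elim hc ht

/-- Spanning global sections generate a quasi-coherent module on an affine scheme. -/
lemma generatedBy_of_span [IsAffine X] {L : X.Modules} (hq : Coh.IsQCoh L) {κ : Type*}
    (s : κ → Γ(L, ⊤)) (hs : Submodule.span Γ(X, ⊤) (Set.range s) = ⊤) : ProjUP.GeneratedBy L s := fun x => by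
  have hU := isAffineOpen_top X
  have hx : x ∈ (⊤ : X.Opens) := trivial
  letI := QCoh.stalkAlg (X := X) (U := ⊤) hx
  letI := QCoh.stalkModule L hx
  haveI := QCoh.isScalarTower_stalk L hx
  haveI := QCoh.isLocalization_stalk' hU hx
  haveI := QCoh.isLocalizedModule_germLin hq hU hx
  have h1 : Submodule.localized' (X.presheaf.stalk x) (hU.primeIdealOf ⟨x, hx⟩).asIdeal.primeCompl
      (QCoh.germLin L hx) (Submodule.span Γ(X, ⊤) (Set.range s)) = ⊤ := by
    rw [hs, Submodule.localized'_top]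
  rw [Submodule.localized'_span, ← Set.range_comp] at h1
  exact h1

variable {R : Type u} [CommRing R]

/-- Global sections over `Spec R` as an `R`-module. -/
noncomputable abbrev specModule (L : (Spec (CommRingCat.of R)).Modules) : Module R Γ(L, ⊤) :=
  Module.compHom _ (Scheme.ΓSpecIso (CommRingCat.of R)).inv.hom

lemma specModule_span_eq_top (L : (Spec (CommRingCat.of R)).Modules) (t : Set Γ(L, ⊤))
    (h : Submodule.span Γ(Spec (CommRingCat.of R), ⊤) t = ⊤) :
    letI := specModule L; Submodule.span R t = ⊤ := by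
  letI := specModule L
  refine eq_top_iff.2 fun m hm0 => ?_
  clear hm0
  have hm : m ∈ Submodule.span Γ(Spec (CommRingCat.of R), ⊤) t := h ▸ trivial
  induction hm using Submodule.span_induction with
  | mem y hy => exact Submodule.subset_span hy
  | zero => exact zero_mem _
  | add y z _ _ hy hz => exact add_mem hy hz
  | smul c y _ hy =>
    have : c • y = (Scheme.ΓSpecIso (CommRingCat.of R)).hom c • y := by
      show c • y = (Scheme.ΓSpecIso (CommRingCat.of R)).inv ((Scheme.ΓSpecIso (CommRingCat.of R)).hom c) • y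
      rw [Iso.hom_inv_id_apply]
    exact this ▸ Submodule.smul_mem _ _ hy

lemma span_top_of_specModule (L : (Spec (CommRingCat.of R)).Modules) (t : Set Γ(L, ⊤))
    (h : letI := specModule L; Submodule.span R t = ⊤) :
    Submodule.span Γ(Spec (CommRingCat.of R), ⊤) t = ⊤ := by
  letI := specModule L
  refine eq_top_iff.2 fun m hm0 => ?_
  clear hm0
  have hm : m ∈ Submodule.span R t := h ▸ trivial
  induction hm using Submodule.span_induction with
  | mem y hy => exact Submodule.subset_span hy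
  | zero => exact zero_mem _
  | add y z _ _ hy hz => exact add_mem hy hz
  | smul c y _ hy => exact Submodule.smul_mem _ ((Scheme.ΓSpecIso (CommRingCat.of R)).inv c) hy

/-- A linear equivalence of global sections of quasi-coherent modules on `Spec R` gives an isomorphism. -/
theorem exists_iso_of_linearEquiv {L₁ L₂ : (Spec (CommRingCat.of R)).Modules} (h₁ : Coh.IsQCoh L₁)
    (h₂ : Coh.IsQCoh L₂)
    (e : letI := specModule L₁; letI := specModule L₂; Γ(L₁, ⊤) ≃ₗ[R] Γ(L₂, ⊤)) :
    ∃ τ : L₁ ≅ L₂, ∀ x, τ.hom.app ⊤ x = (letI := specModule L₁; letI := specModule L₂; e x) := by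
  letI := specModule L₁
  letI := specModule L₂
  let f : (moduleSpecΓFunctor (R := CommRingCat.of R)).obj L₁ ⟶ moduleSpecΓFunctor.obj L₂ :=
    ConcreteCategory.ofHom (C := ModuleCat R)
      { toFun := fun x => e x
        map_add' := map_add e
        map_smul' := fun a x => map_smul e a x }
  let g : (moduleSpecΓFunctor (R := CommRingCat.of R)).obj L₂ ⟶ moduleSpecΓFunctor.obj L₁ :=
    ConcreteCategory.ofHom (C := ModuleCat R)
      { toFun := fun x => e.symm x
        map_add' := map_add e.symm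
        map_smul' := fun a x => map_smul e.symm a x }
  obtain ⟨φ, hφ⟩ := (QCoh.bijective_ΓMap h₁ L₂).2 f
  obtain ⟨ψ, hψ⟩ := (QCoh.bijective_ΓMap h₂ L₁).2 g
  dsimp only at hφ hψ
  refine ⟨⟨φ, ψ, (QCoh.bijective_ΓMap h₁ L₁).1 ?_, (QCoh.bijective_ΓMap h₂ L₂).1 ?_⟩, fun x => ?_⟩
  · show moduleSpecΓFunctor.map _ = moduleSpecΓFunctor.map _
    rw [Functor.map_comp, hφ, hψ, CategoryTheory.Functor.map_id]
    ext x
    show e.symm (e x) = x
    exact e.symm_apply_apply x
  · show moduleSpecΓFunctor.map _ = moduleSpecΓFunctor.map _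
    rw [Functor.map_comp, hφ, hψ, CategoryTheory.Functor.map_id]
    ext x
    show e (e.symm x) = x
    exact e.apply_symm_apply x
  · exact ConcreteCategory.congr_hom hφ x

/-- The stalk of a quasi-coherent module on `Spec R` is the localization of its global sections. -/
theorem rankAtStalk_specModule {L : (Spec (CommRingCat.of R)).Modules} (hq : Coh.IsQCoh L) (p : PrimeSpectrum R) :
    (letI := specModule L; Module.rankAtStalk (R := R) Γ(L, ⊤) p) =
      Module.finrank ((Spec (CommRingCat.of R)).presheaf.stalk p) (L.presheaf.stalk p) := by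
  letI := specModule L
  let iR := (Scheme.ΓSpecIso (CommRingCat.of R))
  have hU := isAffineOpen_top (Spec (CommRingCat.of R))
  have hx : p ∈ (⊤ : (Spec (CommRingCat.of R)).Opens) := trivial
  letI := QCoh.stalkAlg (X := Spec (CommRingCat.of R)) (U := ⊤) hx
  letI := QCoh.stalkModule L hx
  haveI := QCoh.isScalarTower_stalk L hx
  haveI := QCoh.isLocalization_stalk' hU hx
  haveI := QCoh.isLocalizedModule_germLin hq hU hx
  let q := hU.primeIdealOf ⟨p, hx⟩
  have hqp : ∀ r : R, iR.inv r ∈ q.asIdeal ↔ r ∈ p.asIdeal := fun r => by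
    have h1 := QCoh.mem_basicOpen_iff_notMem hU hx (iR.inv r)
    rw [basicOpen_eq_of_affine] at h1
    exact not_iff_not.1 (h1.symm.trans Iff.rfl)
  letI : Algebra R ((Spec (CommRingCat.of R)).presheaf.stalk p) :=
    ((algebraMap Γ(Spec (CommRingCat.of R), ⊤) _).comp iR.inv.hom).toAlgebra
  letI : Module R (L.presheaf.stalk p) := Module.compHom _ iR.inv.hom
  haveI : IsScalarTower R ((Spec (CommRingCat.of R)).presheaf.stalk p) (L.presheaf.stalk p) :=
    IsScalarTower.of_algebraMap_smul fun _ _ => rfl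
  have hsurj : ∀ a : Γ(Spec (CommRingCat.of R), ⊤), ∃ r : R, iR.inv r = a := fun a =>
    ⟨iR.hom a, iR.hom_inv_id_apply a⟩
  haveI : IsLocalization.AtPrime ((Spec (CommRingCat.of R)).presheaf.stalk p) p.asIdeal := by
    refine ⟨fun s => IsLocalization.map_units (M := q.asIdeal.primeCompl) _ ⟨iR.inv s.1, fun h => s.2 ((hqp _).1 h)⟩,
      fun z => ?_, fun {a b} h => ?_⟩
    · obtain ⟨⟨a, s, hs⟩, h⟩ := IsLocalization.surj q.asIdeal.primeCompl z
      obtain ⟨a, rfl⟩ := hsurj a
      obtain ⟨s, rfl⟩ := hsurj s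
      exact ⟨(a, ⟨s, fun h' => hs ((hqp _).2 h')⟩), h⟩
    · obtain ⟨⟨c, hc⟩, h⟩ := IsLocalization.exists_of_eq (M := q.asIdeal.primeCompl) h
      obtain ⟨c, rfl⟩ := hsurj c
      refine ⟨⟨c, fun h' => hc ((hqp _).2 h')⟩, ?_⟩
      apply (ConcreteCategory.bijective_of_isIso iR.inv).1
      rw [map_mul, map_mul]; exact h
  let f : Γ(L, ⊤) →ₗ[R] L.presheaf.stalk p :=
    { toFun := QCoh.germLin L hx
      map_add' := map_add _
      map_smul' := fun r m => map_smul (QCoh.germLin L hx) (iR.inv r) m }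
  haveI : IsLocalizedModule p.asIdeal.primeCompl f := by
    refine ⟨fun s => ?_, fun y => ?_, fun {a b} h => ?_⟩
    · have := IsLocalizedModule.map_units (S := q.asIdeal.primeCompl) (QCoh.germLin L hx)
        ⟨iR.inv s.1, fun h => s.2 ((hqp _).1 h)⟩
      rw [Module.End.isUnit_iff] at this ⊢
      exact this
    · obtain ⟨⟨m, s, hs⟩, h⟩ := IsLocalizedModule.surj q.asIdeal.primeCompl (QCoh.germLin L hx) y
      obtain ⟨s, rfl⟩ := hsurj s
      exact ⟨(m, ⟨s, fun h' => hs ((hqp _).2 h')⟩), h⟩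
    · obtain ⟨⟨c, hc⟩, h⟩ := IsLocalizedModule.exists_of_eq (S := q.asIdeal.primeCompl) (f := QCoh.germLin L hx) h
      obtain ⟨c, rfl⟩ := hsurj c
      exact ⟨⟨c, fun h' => hc ((hqp _).2 h')⟩, h⟩
  obtain ⟨i, j, hij⟩ := QCoh.exists_semilinear p.asIdeal.primeCompl (Localization.AtPrime p.asIdeal)
    ((Spec (CommRingCat.of R)).presheaf.stalk p)
    (LocalizedModule.mkLinearMap p.asIdeal.primeCompl Γ(L, ⊤)) f
  exact congrArg Cardinal.toNat (rank_eq_of_equiv_equiv i j i.bijective hij)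

end Groth.Agent.ProjUPX
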