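import Groth.Agent.ProjUPX.Make
import Groth.Agent.InvX.Pullback

/-!
# A morphism to `Proj` is determined by the pulled back degree one sections
-/

universe u

open CategoryTheory CategoryTheory.Limits AlgebraicGeometry TopologicalSpace Opposite HomogeneousLocalization

namespace Groth.Agent.ProjUPX

open Groth.Agent.AModX

variable {R A : Type u} [CommRing R] [CommRing A] [Algebra R A]
  {𝒜 : ℕ → Submodule R A} [GradedAlgebra 𝒜] {X : Scheme.{u}} (r : X ⟶ Proj 𝒜)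

/-- The pulled back degree one section. -/
noncomputable def pullG {a : A} (ha : a ∈ 𝒜 1) :
    Γ((Scheme.Modules.pullback r).obj (Twist.twist 𝒜 1), ⊤) :=
  ((Scheme.Modules.pullbackPushforwardAdjunction r).unit.app (Twist.twist 𝒜 1)).app ⊤ (sec 𝒜 ha)

/-- The pulled back ratio. -/
noncomputable def ratioOf {a t : A} (ha : a ∈ 𝒜 1) (ht : t ∈ 𝒜 1) {W : X.Opens}
    (h : W ≤ r ⁻¹ᵁ Proj.basicOpen 𝒜 t) : Γ(X, W) :=
  r.appLE (Proj.basicOpen 𝒜 t) W h
    ((Proj.awayToSection 𝒜 t).hom (Away.mk 𝒜 ht 1 a (by rwa [one_smul])))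

lemma res_pullG {a t : A} (ha : a ∈ 𝒜 1) (ht : t ∈ 𝒜 1) {W : X.Opens}
    (h : W ≤ r ⁻¹ᵁ Proj.basicOpen 𝒜 t) :
    res _ (le_top : W ≤ ⊤) (pullG r ha) = ratioOf r ha ht h • res _ (le_top : W ≤ ⊤) (pullG r ht) := by
  let V := Proj.basicOpen 𝒜 t
  let η : Twist.twist 𝒜 1 ⟶ (Scheme.Modules.pushforward r).obj ((Scheme.Modules.pullback r).obj (Twist.twist 𝒜 1)) :=
    (Scheme.Modules.pullbackPushforwardAdjunction r).unit.app (Twist.twist 𝒜 1)
  have h1 := congrArg (η.app V) (sec_eq_smul 𝒜 ha ht)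
  rw [Scheme.Modules.Hom.app_smul, app_res, app_res] at h1
  have h2 : res _ (le_top : r ⁻¹ᵁ V ≤ ⊤) (pullG r ha) =
      r.app V ((Proj.awayToSection 𝒜 t).hom (Away.mk 𝒜 ht 1 a (by rwa [one_smul]))) •
        res _ (le_top : r ⁻¹ᵁ V ≤ ⊤) (pullG r ht) := h1
  have h3 := congrArg (res _ h) h2
  rw [res_smul, res_res, res_res] at h3
  exact h3

lemma isFrame_pullG {t : A} (ht : t ∈ 𝒜 1) :
    InvX.IsFrame (res _ (le_top : r ⁻¹ᵁ Proj.basicOpen 𝒜 t ≤ ⊤) (pullG r ht)) := by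
  have h := InvX.isFrame_pullElt r (isFrame_sec 𝒜 ht)
  have he : InvX.pullElt r (res (Twist.twist 𝒜 1) (le_top : Proj.basicOpen 𝒜 t ≤ ⊤) (sec 𝒜 ht)) =
      res _ (le_top : r ⁻¹ᵁ Proj.basicOpen 𝒜 t ≤ ⊤) (pullG r ht) :=
    app_res ((Scheme.Modules.pullbackPushforwardAdjunction r).unit.app (Twist.twist 𝒜 1)) _ _
  rwa [he] at h

lemma le_preimage_of_isUnit {a t : A} (ha : a ∈ 𝒜 1) (ht : t ∈ 𝒜 1) {W : X.Opens}
    (h : W ≤ r ⁻¹ᵁ Proj.basicOpen 𝒜 t) (hu : IsUnit (ratioOf r ha ht h)) :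
    W ≤ r ⁻¹ᵁ Proj.basicOpen 𝒜 a := by
  have h1 := X.basicOpen_of_isUnit hu
  rw [ratioOf, Scheme.basicOpen_appLE] at h1
  refine le_trans (h1.ge.trans inf_le_right) (r.preimage_mono ?_)
  intro y hy
  have hyt : y ∈ Proj.basicOpen 𝒜 t := (Proj 𝒜).basicOpen_le _ hy
  rw [← Proj.opensRange_awayι 𝒜 t ht one_pos] at hyt
  obtain ⟨z, rfl⟩ := hyt
  have e1 : (⊤ : (Spec (CommRingCat.of (Away 𝒜 t))).Opens) ≤
      Proj.awayι 𝒜 t ht one_pos ⁻¹ᵁ Proj.basicOpen 𝒜 t := by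
    rw [← Proj.opensRange_awayι 𝒜 t ht one_pos, Scheme.Hom.preimage_opensRange]
  have hz : z ∈ ⊤ ⊓ Proj.awayι 𝒜 t ht one_pos ⁻¹ᵁ (Proj 𝒜).basicOpen
      ((Proj.awayToSection 𝒜 t).hom (Away.mk 𝒜 ht 1 a (by rwa [one_smul]))) := ⟨trivial, hy⟩
  rw [← Scheme.basicOpen_appLE (e := e1), ← CommRingCat.comp_apply, ProjPt.awayι_appLE,
    basicOpen_eq_of_affine] at hz
  show z ∈ Proj.awayι 𝒜 t ht one_pos ⁻¹ᵁ Proj.basicOpen 𝒜 a
  rw [Proj.awayι_preimage_basicOpen 𝒜 ht one_pos ha one_pos]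
  simpa [Away.isLocalizationElem] using hz

omit [GradedAlgebra 𝒜] in
lemma loc_scale {C : Type*} [CommRing C] {κ : Type*} (c0 : R →+* C) (v v' : κ → C) (c : C)
    (hv : ∀ k, v' k = c * v k) {i : ℕ} {p : MvPolynomial κ R} (hp : p.IsHomogeneous i) :
    MvPolynomial.eval₂Hom c0 v' p = c ^ i * MvPolynomial.eval₂Hom c0 v p :=
  ProjPt.eval₂Hom_scale c0 v v' c hv hp

lemma away_mk_eq_eval {κ : Type*} {T : κ → A} (hT : ∀ i, T i ∈ 𝒜 1) {t : A} (ht : t ∈ 𝒜 1)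
    (m : ℕ) (p : MvPolynomial κ R) (hp : p.IsHomogeneous m) (ha : MvPolynomial.aeval T p ∈ 𝒜 (m • 1)) :
    Away.mk 𝒜 ht m (MvPolynomial.aeval T p) ha =
      MvPolynomial.eval₂Hom ((fromZeroRingHom 𝒜 _).comp (algebraMap R (𝒜 0)))
        (fun k => Away.mk 𝒜 ht 1 (T k) (by rw [one_smul]; exact hT k)) p := by
  let al : A →+* Localization.Away t := algebraMap _ _
  let inv : Localization.Away t := Localization.mk 1 ⟨t, Submonoid.mem_powers _⟩
  apply val_injective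
  rw [← HomogeneousLocalization.algebraMap_apply (y := MvPolynomial.eval₂Hom _ _ p),
    MvPolynomial.map_eval₂Hom]
  have hc : (algebraMap (Away 𝒜 t) (Localization.Away t)).comp
      ((fromZeroRingHom 𝒜 (Submonoid.powers t)).comp (algebraMap R (𝒜 0))) =
        al.comp (algebraMap R A) := by
    ext x
    change _ = algebraMap A (Localization.Away t) (algebraMap R A x)
    rw [← Localization.mk_one_eq_algebraMap]
    rfl
  rw [hc, loc_scale (al.comp (algebraMap R A)) (fun k => al (T k)) _ inv (fun k => ?_) hp]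
  · rw [show MvPolynomial.eval₂Hom (al.comp (algebraMap R A)) (fun k => al (T k)) p =
        al (MvPolynomial.eval₂Hom (algebraMap R A) T p) from (MvPolynomial.map_eval₂Hom _ _ al p).symm]
    rw [Away.val_mk, Localization.mk_pow]
    change _ = _ * algebraMap A (Localization.Away t) (MvPolynomial.aeval T p)
    rw [← Localization.mk_one_eq_algebraMap, Localization.mk_mul, Localization.mk_eq_mk_iff,
      Localization.r_iff_exists]
    exact ⟨1, by simp⟩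
  · change (Away.mk 𝒜 ht 1 (T k) _).val = inv * algebraMap A (Localization.Away t) (T k)
    rw [Away.val_mk, ← Localization.mk_one_eq_algebraMap, Localization.mk_mul,
      Localization.mk_eq_mk_iff, Localization.r_iff_exists]
    exact ⟨1, by simp⟩

lemma ι_eq_of_appLE {t : A} (ht : t ∈ 𝒜 1) (r r' : X ⟶ Proj 𝒜) {U : X.Opens}
    (h : U ≤ r ⁻¹ᵁ Proj.basicOpen 𝒜 t) (h' : U ≤ r' ⁻¹ᵁ Proj.basicOpen 𝒜 t)
    (he : Proj.awayToSection 𝒜 t ≫ r.appLE _ U h = Proj.awayToSection 𝒜 t ≫ r'.appLE _ U h') :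
    U.ι ≫ r = U.ι ≫ r' := by
  have key : ∀ (s : X ⟶ Proj 𝒜) (hs : U ≤ s ⁻¹ᵁ Proj.basicOpen 𝒜 t),
      U.ι ≫ s = U.toScheme.toSpecΓ ≫ Spec.map ((Proj.awayToSection 𝒜 t ≫ s.appLE _ U hs) ≫
        U.ι.appLE U ⊤ U.ι_preimage_self.ge) ≫ Proj.awayι 𝒜 t ht one_pos := by
    intro s hs
    have hr : Set.range (U.ι ≫ s) ⊆ Set.range (Proj.awayι 𝒜 t ht one_pos) := by
      rintro _ ⟨z, rfl⟩
      have hz : (U.ι ≫ s) z ∈ (Proj.awayι 𝒜 t ht one_pos).opensRange := by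
        rw [Proj.opensRange_awayι]; exact hs z.2
      exact hz
    let q := IsOpenImmersion.lift (Proj.awayι 𝒜 t ht one_pos) _ hr
    have hq : q ≫ Proj.awayι 𝒜 t ht one_pos = U.ι ≫ s := IsOpenImmersion.lift_fac _ _ _
    have e1 : (⊤ : (Spec (CommRingCat.of (Away 𝒜 t))).Opens) ≤
        Proj.awayι 𝒜 t ht one_pos ⁻¹ᵁ Proj.basicOpen 𝒜 t := by
      rw [← Proj.opensRange_awayι 𝒜 t ht one_pos, Scheme.Hom.preimage_opensRange]
    rw [Category.assoc, Scheme.Hom.appLE_comp_appLE]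
    conv_lhs => rw [← hq, ProjPt.eq_toSpecΓ q, Category.assoc]
    congr 3
    simp only [← hq]
    rw [← Scheme.Hom.appLE_comp_appLE q _ _ ⊤ ⊤ e1 le_top, ← Category.assoc, ProjPt.awayι_appLE]
    congr 1
    exact q.app_eq_appLE (U := ⊤)
  rw [key r h, key r' h', he]

/-- The uniqueness statement. -/
theorem eq_of_iso_pullback {κ : Type*} {T : κ → A} (hT : ∀ i, T i ∈ 𝒜 1)
    (hgen : Algebra.adjoin R (Set.range T) = ⊤) (covT : ∀ y : Proj 𝒜, ∃ i, y ∈ Proj.basicOpen 𝒜 (T i))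
    (r r' : X ⟶ Proj 𝒜)
    (hrr' : r ≫ Proj.toSpecZero 𝒜 ≫ Spec.map (CommRingCat.ofHom (algebraMap R (𝒜 0))) =
      r' ≫ Proj.toSpecZero 𝒜 ≫ Spec.map (CommRingCat.ofHom (algebraMap R (𝒜 0))))
    (τ : (Scheme.Modules.pullback r).obj (Twist.twist 𝒜 1) ≅
      (Scheme.Modules.pullback r').obj (Twist.twist 𝒜 1))
    (hτ : ∀ i, τ.hom.app ⊤ (pullG r (hT i)) = pullG r' (hT i)) : r = r' := by
  have key : ∀ (i l : κ) (W : X.Opens) (h : W ≤ r ⁻¹ᵁ Proj.basicOpen 𝒜 (T i)),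
      res _ (le_top : W ≤ ⊤) (pullG r' (hT l)) =
        ratioOf r (hT l) (hT i) h • res _ (le_top : W ≤ ⊤) (pullG r' (hT i)) := by
    intro i l W h
    rw [← hτ l, ← hτ i, ← app_res, ← app_res, res_pullG r (hT l) (hT i) h, Scheme.Modules.Hom.app_smul]
  have hle : ∀ i, r ⁻¹ᵁ Proj.basicOpen 𝒜 (T i) ≤ r' ⁻¹ᵁ Proj.basicOpen 𝒜 (T i) := by
    intro i x hx
    obtain ⟨j, hj⟩ := covT (r' x)
    let W : X.Opens := r ⁻¹ᵁ Proj.basicOpen 𝒜 (T i) ⊓ r' ⁻¹ᵁ Proj.basicOpen 𝒜 (T j)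
    refine le_preimage_of_isUnit r' (hT i) (hT j) (W := W) inf_le_right ?_ ⟨hx, hj⟩
    refine .of_mul_eq_one (ratioOf r (hT j) (hT i) (inf_le_left : W ≤ _)) ?_
    refine (isFrame_pullG r' (hT j)).coord_unique (inf_le_right : W ≤ _) ?_
    rw [res_res, one_smul, mul_comm, mul_smul, ← res_pullG r' (hT i) (hT j) inf_le_right, ← key]
  refine Scheme.Cover.hom_ext (X.openCoverOfIsOpenCover (fun i => r ⁻¹ᵁ Proj.basicOpen 𝒜 (T i))
    (IsOpenCover.mk (eq_top_iff.2 fun x _ => Opens.mem_iSup.2 (covT (r x))))) _ _ fun (i : κ) => ?_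
  let U : X.Opens := r ⁻¹ᵁ Proj.basicOpen 𝒜 (T i)
  show U.ι ≫ r = U.ι ≫ r'
  refine ι_eq_of_appLE (hT i) r r' le_rfl (hle i) ?_
  have hratio : ∀ l, ratioOf r (hT l) (hT i) (le_refl U) = ratioOf r' (hT l) (hT i) (hle i) := fun l => by
    refine ((isFrame_pullG r' (hT i)).coord_unique (hle i) ?_)
    rw [res_res, ← key, ← res_pullG]
  ext a
  obtain ⟨m, b, hb, rfl⟩ := Away.mk_surjective 𝒜 (hT i) a
  obtain ⟨p, hp, rfl⟩ := exists_homogeneous_preimage 𝒜 hT hgen (d := m) (by simpa using hb)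
  rw [away_mk_eq_eval hT (hT i) m p hp, MvPolynomial.map_eval₂Hom, MvPolynomial.map_eval₂Hom]
  refine MvPolynomial.eval₂Hom_congr ?_ (funext fun l => hratio l) rfl
  have e1 := congrArg Scheme.Hom.appTop hrr'
  ext x
  have e2 := ConcreteCategory.congr_hom e1 ((Scheme.ΓSpecIso (CommRingCat.of R)).inv x)
  have e3 := congrArg (resR (le_top : U ≤ ⊤)) e2
  have main : ∀ (s : X ⟶ Proj 𝒜) (hs : U ≤ s ⁻¹ᵁ Proj.basicOpen 𝒜 (T i)),
      resR (le_top : U ≤ ⊤) ((s ≫ Proj.toSpecZero 𝒜 ≫ Spec.map (CommRingCat.ofHom (algebraMap R (𝒜 0)))).appTop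
        ((Scheme.ΓSpecIso (CommRingCat.of R)).inv x)) =
      s.appLE (Proj.basicOpen 𝒜 (T i)) U hs ((Proj.awayToSection 𝒜 (T i)).hom
        (fromZeroRingHom 𝒜 _ (algebraMap R (𝒜 0) x))) := by
    intro s hs
    let w := Proj.toSpecZero 𝒜 ≫ Spec.map (CommRingCat.ofHom (algebraMap R (𝒜 0)))
    let V := Proj.basicOpen 𝒜 (T i)
    have hw : resR (le_top : V ≤ ⊤) (w.appTop ((Scheme.ΓSpecIso (CommRingCat.of R)).inv x)) =
        (Proj.awayToSection 𝒜 (T i)).hom (fromZeroRingHom 𝒜 _ (algebraMap R (𝒜 0) x)) := by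
      have hc : Proj.awayι 𝒜 (T i) (hT i) one_pos ≫ w = Spec.map (CommRingCat.ofHom
          ((fromZeroRingHom 𝒜 (Submonoid.powers (T i))).comp (algebraMap R (𝒜 0)))) := by
        simp only [w, Proj.awayι_toSpecZero_assoc, ← Spec.map_comp, ← CommRingCat.ofHom_comp]
      have e1 : (⊤ : (Spec (CommRingCat.of (Away 𝒜 (T i)))).Opens) ≤
          Proj.awayι 𝒜 (T i) (hT i) one_pos ⁻¹ᵁ V := by
        show _ ≤ _ ⁻¹ᵁ Proj.basicOpen 𝒜 (T i)
        rw [← Proj.opensRange_awayι 𝒜 (T i) (hT i) one_pos, Scheme.Hom.preimage_opensRange]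
      have hinj : Function.Injective ((Proj.awayι 𝒜 (T i) (hT i) one_pos).appLE V ⊤ e1) := by
        have hcomp := ProjPt.awayι_appLE 𝒜 (hT i) one_pos e1
        have : IsIso (Proj.awayToSection 𝒜 (T i)) := by
          rw [← Proj.basicOpenIsoAway_hom 𝒜 (T i) (hT i) one_pos]; infer_instance
        have : IsIso ((Proj.awayι 𝒜 (T i) (hT i) one_pos).appLE V ⊤ e1) := by
          have : IsIso (Proj.awayToSection 𝒜 (T i) ≫
              (Proj.awayι 𝒜 (T i) (hT i) one_pos).appLE V ⊤ e1) := by rw [hcomp]; infer_instance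
          exact IsIso.of_isIso_comp_left (Proj.awayToSection 𝒜 (T i)) _
        exact ((ConcreteCategory.isIso_iff_bijective _).1 this).1
      apply hinj
      rw [← CommRingCat.comp_apply (Proj.awayToSection 𝒜 (T i)), ProjPt.awayι_appLE 𝒜 (hT i) one_pos e1]
      refine (ConcreteCategory.congr_hom (Scheme.Hom.map_appLE _ e1 (homOfLE le_top).op) _).trans ?_
      rw [← CommRingCat.comp_apply w.appTop, show (Proj.awayι 𝒜 (T i) (hT i) one_pos).appLE ⊤ ⊤ le_top =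
        (Proj.awayι 𝒜 (T i) (hT i) one_pos).appTop from (Scheme.Hom.app_eq_appLE _ (U := ⊤)).symm,
        ← Scheme.Hom.comp_appTop, hc]
      exact (ConcreteCategory.congr_hom (Scheme.ΓSpecIso_inv_naturality (CommRingCat.ofHom
        ((fromZeroRingHom 𝒜 (Submonoid.powers (T i))).comp (algebraMap R (𝒜 0))))) x).symm
    rw [← hw, show (s ≫ Proj.toSpecZero 𝒜 ≫ Spec.map _).appTop = w.appTop ≫ s.appTop from
      Scheme.Hom.comp_appTop s w]
    refine Eq.trans ?_ (ConcreteCategory.congr_hom (Scheme.Hom.map_appLE s hs (homOfLE le_top).op) _).symm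
    rw [CommRingCat.comp_apply, Scheme.Hom.appTop, Scheme.Hom.app_eq_appLE]
    exact ConcreteCategory.congr_hom (Scheme.Hom.appLE_map s _ (homOfLE le_top).op) _
  exact (main r le_rfl).symm.trans (e3.trans (main r' (hle i)))

end Groth.Agent.ProjUPX
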