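import Groth.Agent.ProjUPX.Affine
import Groth.Agent.PnCoh.Finite.TwistInv
import Groth.Agent.PicClLib.Basic
import Groth.Agent.ProjPt.Poly

/-!
# Sections of projective space over an affine base
-/

universe u

open CategoryTheory AlgebraicGeometry

set_option backward.isDefEq.respectTransparency false
set_option backward.isDefEq.respectTransparency.types false
set_option linter.style.haveILetI false

namespace Groth.Agent.ProjUPX

variable {n : ℕ} {R : Type u} [CommRing R]

lemma adjoin_X : Algebra.adjoin R (Set.range fun i : Fin (n + 1) => (MvPolynomial.X i : MvPolynomial (Fin (n + 1)) R)) = ⊤ :=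
  MvPolynomial.adjoin_range_X

lemma cov_X (y : Proj (CohB1.polyGrading n R)) :
    ∃ i : Fin (n + 1), y ∈ Proj.basicOpen (CohB1.polyGrading n R) (MvPolynomial.X i) :=
  exists_notMem_of_adjoin _ (T := fun i : Fin (n + 1) => MvPolynomial.X i) (fun i => ProjPt.X_mem i) adjoin_X y

variable (s : Spec (CommRingCat.of R) ⟶ CohB1.ProjSpace n R)

lemma isInvertible_secPull :
    PicF.IsInvertible ((Scheme.Modules.pullback s).obj (Twist.twistProjSpace n R 1)) :=
  PicClLib.isInvertible_pullback s (PnCoh.Finite.isInvertible_twist (𝒜 := CohB1.polyGrading n R)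
    (fun i : Fin (n + 1) => (MvPolynomial.X i : MvPolynomial (Fin (n + 1)) R)) (fun i => ProjPt.X_mem i)
    (top_le_iff.1 fun y _ => TopologicalSpace.Opens.mem_iSup.2 (cov_X y)) 1)

lemma generatedBy_secPull :
    ProjUP.GeneratedBy ((Scheme.Modules.pullback s).obj (Twist.twistProjSpace n R 1))
      fun i => ProjUP.pullSec s (Twist.twistProjSpace n R 1) (ProjUP.coord n R i) :=
  generatedBy_pullG (𝒜 := CohB1.polyGrading n R) s (T := fun i : Fin (n + 1) => MvPolynomial.X i)
    (fun i => ProjPt.X_mem i) cov_X

lemma linearCombination_secPull_surjective :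
    letI := specModule ((Scheme.Modules.pullback s).obj (Twist.twistProjSpace n R 1))
    Function.Surjective (Fintype.linearCombination R
      fun i => (ProjUP.pullSec s (Twist.twistProjSpace n R 1) (ProjUP.coord n R i) :
        Γ((Scheme.Modules.pullback s).obj (Twist.twistProjSpace n R 1), ⊤))) := by
  letI := specModule ((Scheme.Modules.pullback s).obj (Twist.twistProjSpace n R 1))
  rw [← LinearMap.range_eq_top, Fintype.range_linearCombination]
  exact specModule_span_eq_top _ _
    (span_eq_top_of_generatedBy (isQCoh_of_isInvertible (isInvertible_secPull s)) _ (generatedBy_secPull s))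

lemma secKernel_eq :
    letI := specModule ((Scheme.Modules.pullback s).obj (Twist.twistProjSpace n R 1))
    ProjUP.secKernel n R s = LinearMap.ker (Fintype.linearCombination R
      fun i => (ProjUP.pullSec s (Twist.twistProjSpace n R 1) (ProjUP.coord n R i) :
        Γ((Scheme.Modules.pullback s).obj (Twist.twistProjSpace n R 1), ⊤))) := rfl

end Groth.Agent.ProjUPX
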