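import Groth.Agent.ProjUPX.Glue

/-!
# The glued morphism pulls `O(1)` back to the invertible module
-/

universe u

open CategoryTheory CategoryTheory.Limits AlgebraicGeometry TopologicalSpace Opposite HomogeneousLocalization

namespace Groth.Agent.ProjUPX

open Groth.Agent.AModX

variable {R A : Type u} [CommRing R] [CommRing A] [Algebra R A]
  {𝒜 : ℕ → Submodule R A} [GradedAlgebra 𝒜] {X : Scheme.{u}}

/-- Scalars on a direct image act through the comorphism. -/
lemma push_smul {Y : Scheme.{u}} (r : X ⟶ Y) (M : X.Modules) (V : Y.Opens) (c : Γ(Y, V))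
    (m : Γ(M, r ⁻¹ᵁ V)) :
    (show Γ(M, r ⁻¹ᵁ V) from c • (show Γ((Scheme.Modules.pushforward r).obj M, V) from m)) =
      r.app V c • m := rfl

/-- Restriction on a direct image. -/
lemma push_res {Y : Scheme.{u}} (r : X ⟶ Y) (M : X.Modules) {V W : Y.Opens} (h : W ≤ V)
    (m : Γ(M, r ⁻¹ᵁ V)) :
    (show Γ(M, r ⁻¹ᵁ W) from res ((Scheme.Modules.pushforward r).obj M) h
      (show Γ((Scheme.Modules.pushforward r).obj M, V) from m)) =
      res M (r.preimage_mono h) m := rfl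

namespace CoordData

variable {L : X.Modules} (D : CoordData 𝒜 X L)

/-- The inverse image of `O(1)`. -/
noncomputable abbrev pulled : X.Modules := (Scheme.Modules.pullback D.map).obj (Twist.twist 𝒜 1)

/-- The unit. -/
noncomputable abbrev unit1 :
    Twist.twist 𝒜 1 ⟶ (Scheme.Modules.pushforward D.map).obj D.pulled :=
  (Scheme.Modules.pullbackPushforwardAdjunction D.map).unit.app (Twist.twist 𝒜 1)

/-- The pulled back coordinates. -/
noncomputable def pullT (l : D.κ) : Γ(D.pulled, ⊤) := D.unit1.app ⊤ (sec 𝒜 (D.hT l))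

lemma sec_coord {i l : D.κ} {W : (Proj 𝒜).Opens} (h : W ≤ Proj.basicOpen 𝒜 (D.T i)) :
    res (Twist.twist 𝒜 1) (le_top : W ≤ ⊤) (sec 𝒜 (D.hT l)) =
      resR h ((Proj.awayToSection 𝒜 (D.T i)).hom
        (Away.mk 𝒜 (D.hT i) 1 (D.T l) (by rw [one_smul]; exact D.hT l))) •
        res (Twist.twist 𝒜 1) (le_top : W ≤ ⊤) (sec 𝒜 (D.hT i)) := by
  have := congrArg (res (Twist.twist 𝒜 1) h) (sec_eq_smul 𝒜 (D.hT l) (D.hT i))
  rwa [res_smul, res_res, res_res] at this

lemma res_pullT (i l : D.κ) {W : X.Opens} (h : W ≤ D.map ⁻¹ᵁ Proj.basicOpen 𝒜 (D.T i)) :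
    res D.pulled (le_top : W ≤ ⊤) (D.pullT l) =
      D.ratio i l h • res D.pulled (le_top : W ≤ ⊤) (D.pullT i) := by
  let V := Proj.basicOpen 𝒜 (D.T i)
  have h1 := congrArg (D.unit1.app V) (D.sec_coord (i := i) (l := l) (le_refl V))
  rw [Scheme.Modules.Hom.app_smul, app_res, app_res, resR_self] at h1
  have h2 : res D.pulled (le_top : D.map ⁻¹ᵁ V ≤ ⊤) (D.pullT l) =
      D.map.app V ((Proj.awayToSection 𝒜 (D.T i)).hom
        (Away.mk 𝒜 (D.hT i) 1 (D.T l) (by rw [one_smul]; exact D.hT l))) •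
        res D.pulled (le_top : D.map ⁻¹ᵁ V ≤ ⊤) (D.pullT i) := h1
  have h3 := congrArg (res D.pulled h) h2
  rw [res_smul, res_res, res_res] at h3
  exact h3

/-- The value of the comparison on the coordinates. -/
noncomputable def nPush (i : D.κ) :
    Γ((Scheme.Modules.pushforward D.map).obj L, Proj.basicOpen 𝒜 (D.T i)) :=
  show Γ(L, D.map ⁻¹ᵁ Proj.basicOpen 𝒜 (D.T i)) from res L le_top (D.s i)

lemma push_cond (i j : D.κ) (W : (Proj 𝒜).Opens) (ha : W ≤ Proj.basicOpen 𝒜 (D.T i))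
    (hb : W ≤ Proj.basicOpen 𝒜 (D.T j)) (g : Γ(Proj 𝒜, W))
    (hg : res (Twist.twist 𝒜 1) hb (res (Twist.twist 𝒜 1) le_top (sec 𝒜 (D.hT j))) =
      g • res (Twist.twist 𝒜 1) ha (res (Twist.twist 𝒜 1) le_top (sec 𝒜 (D.hT i)))) :
    res ((Scheme.Modules.pushforward D.map).obj L) hb (D.nPush j) =
      g • res ((Scheme.Modules.pushforward D.map).obj L) ha (D.nPush i) := by
  rw [res_res, res_res] at hg
  have hg' : g = resR ha ((Proj.awayToSection 𝒜 (D.T i)).hom
      (Away.mk 𝒜 (D.hT i) 1 (D.T j) (by rw [one_smul]; exact D.hT j))) := by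
    refine (isFrame_sec 𝒜 (D.hT i)).coord_unique ha ?_
    rw [res_res, ← hg, D.sec_coord ha]
  show res L (D.map.preimage_mono hb) (res L le_top (D.s j)) =
    D.map.app W g • res L (D.map.preimage_mono ha) (res L le_top (D.s i))
  rw [res_res, res_res, D.res_s i j (D.map.preimage_mono ha)]
  congr 1
  rw [hg', ratio]
  exact (ConcreteCategory.congr_hom (D.map.naturality (homOfLE ha).op) _).symm

/-- The comparison, adjointly. -/
noncomputable def toPush : Twist.twist 𝒜 1 ⟶ (Scheme.Modules.pushforward D.map).obj L :=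
  InvX.ofFrames (U := fun i => Proj.basicOpen 𝒜 (D.T i))
    (e := fun i => res (Twist.twist 𝒜 1) le_top (sec 𝒜 (D.hT i))) (n := D.nPush)
    D.covT (fun i => isFrame_sec 𝒜 (D.hT i)) D.push_cond

/-- The comparison. -/
noncomputable def toL : D.pulled ⟶ L :=
  ((Scheme.Modules.pullbackPushforwardAdjunction D.map).homEquiv _ _).symm D.toPush

lemma unit_toL : D.unit1 ≫ (Scheme.Modules.pushforward D.map).map D.toL = D.toPush := by
  rw [← Adjunction.homEquiv_unit]
  exact Equiv.apply_symm_apply _ _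

lemma toPush_top (l : D.κ) : (show Γ(L, ⊤) from D.toPush.app ⊤ (sec 𝒜 (D.hT l))) = D.s l := by
  refine eq_of_locally _ _ fun p _ => ?_
  obtain ⟨i, hi⟩ := D.covT (D.map p)
  refine ⟨D.map ⁻¹ᵁ Proj.basicOpen 𝒜 (D.T i), le_top, hi, ?_⟩
  have h1 : D.toPush.app (Proj.basicOpen 𝒜 (D.T i))
      (res (Twist.twist 𝒜 1) le_top (sec 𝒜 (D.hT l))) =
      resR (le_refl _) ((Proj.awayToSection 𝒜 (D.T i)).hom
        (Away.mk 𝒜 (D.hT i) 1 (D.T l) (by rw [one_smul]; exact D.hT l))) • D.nPush i := by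
    rw [D.sec_coord (le_refl _), Scheme.Modules.Hom.app_smul]
    congr 1
    exact InvX.ofFrames_app D.covT _ _ i
  rw [app_res, resR_self] at h1
  rw [D.res_s i l (le_refl _)]
  refine h1.trans ?_
  show D.map.app (Proj.basicOpen 𝒜 (D.T i)) _ • res L (le_top : D.map ⁻¹ᵁ Proj.basicOpen 𝒜 (D.T i) ≤ ⊤) (D.s i) = _
  congr 1
  rw [ratio, Scheme.Hom.app_eq_appLE]

/-- The comparison maps pulled back coordinates to the sections. -/
lemma toL_pullT (l : D.κ) : D.toL.app ⊤ (D.pullT l) = D.s l := by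
  refine Eq.trans ?_ (D.toPush_top l)
  rw [← unit_toL]
  rfl

lemma pull_cond (a b : D.ι) (W : X.Opens) (ha : W ≤ D.U a) (hb : W ≤ D.U b) (g : Γ(X, W))
    (hg : res L hb (res L le_top (D.s (D.k b))) = g • res L ha (res L le_top (D.s (D.k a)))) :
    res D.pulled hb (res D.pulled le_top (D.pullT (D.k b))) =
      g • res D.pulled ha (res D.pulled le_top (D.pullT (D.k a))) := by
  have hg' : g = resR ha (D.f a (D.T (D.k b))) := by
    refine (D.frame a).coord_unique ha ?_
    rw [← hg, res_res, res_res]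
    have := congrArg (res L ha) (D.hs a (D.k b))
    rwa [res_smul, res_res, res_res] at this
  rw [res_res, res_res, D.res_pullT (D.k a) (D.k b) (ha.trans (D.le_preimage a)), D.ratio_eq a _ ha, hg']

/-- The inverse comparison. -/
noncomputable def ofL : L ⟶ D.pulled :=
  InvX.ofFrames (U := D.U) (e := fun a => res L le_top (D.s (D.k a)))
    (n := fun a => res D.pulled le_top (D.pullT (D.k a))) D.cov D.frame D.pull_cond

lemma ofL_top (l : D.κ) : D.ofL.app ⊤ (D.s l) = D.pullT l := by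
  refine eq_of_locally _ _ fun p _ => ?_
  obtain ⟨a, ha⟩ := D.cov p
  refine ⟨D.U a, le_top, ha, ?_⟩
  rw [← app_res, D.hs a l, Scheme.Modules.Hom.app_smul]
  erw [InvX.ofFrames_app D.cov]
  rw [D.res_pullT (D.k a) l (D.le_preimage a), ← resR_self (D.f a (D.T l)),
    ← D.ratio_eq a l (le_refl _)]

lemma ofL_toL : D.ofL ≫ D.toL = 𝟙 L := by
  refine InvX.hom_ext_of_frames D.U D.cov (fun a => res L le_top (D.s (D.k a))) D.frame fun a => ?_
  show D.toL.app (D.U a) (D.ofL.app (D.U a) (res L le_top (D.s (D.k a)))) = res L le_top (D.s (D.k a))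
  erw [InvX.ofFrames_app D.cov]
  rw [app_res, toL_pullT]

lemma toL_ofL : D.toL ≫ D.ofL = 𝟙 D.pulled := by
  apply ((Scheme.Modules.pullbackPushforwardAdjunction D.map).homEquiv _ _).injective
  rw [Adjunction.homEquiv_unit, Adjunction.homEquiv_unit, Functor.map_comp, ← Category.assoc,
    show _ ≫ (Scheme.Modules.pushforward D.map).map D.toL = D.toPush from D.unit_toL,
    CategoryTheory.Functor.map_id]
  refine Eq.trans ?_ (Category.comp_id _).symm
  refine InvX.hom_ext_of_frames (fun i => Proj.basicOpen 𝒜 (D.T i)) D.covT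
    (fun i => res (Twist.twist 𝒜 1) le_top (sec 𝒜 (D.hT i))) (fun i => isFrame_sec 𝒜 (D.hT i)) fun i => ?_
  show D.ofL.app (D.map ⁻¹ᵁ Proj.basicOpen 𝒜 (D.T i))
    (show Γ(L, _) from D.toPush.app _ (res (Twist.twist 𝒜 1) le_top (sec 𝒜 (D.hT i)))) = _
  erw [InvX.ofFrames_app D.covT]
  show D.ofL.app _ (res L le_top (D.s i)) = _
  rw [app_res, ofL_top]
  exact (app_res D.unit1 le_top _).symm

/-- The isomorphism. -/
noncomputable def iso : D.pulled ≅ L := ⟨D.toL, D.ofL, D.toL_ofL, D.ofL_toL⟩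

/-- The structure map. -/
lemma map_comp_eq (q : X ⟶ Spec (CommRingCat.of R))
    (hq : ∀ a x, D.f a (algebraMap R A x) = resR (le_top : D.U a ≤ ⊤) (ProjUP.toGlobal q x)) :
    D.map ≫ Proj.toSpecZero 𝒜 ≫ Spec.map (CommRingCat.ofHom (algebraMap R (𝒜 0))) = q := by
  refine Scheme.Cover.hom_ext D.cover _ _ fun a => ?_
  show (D.U a).ι ≫ _ = (D.U a).ι ≫ q
  rw [reassoc_of% D.ι_map a, chart, ← Category.assoc, ProjPt.pt_toSpecZero, Category.assoc,
    ← Spec.map_comp, ← CommRingCat.ofHom_comp, ProjPt.eq_toSpecΓ ((D.U a).ι ≫ q)]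
  congr 2
  ext x
  show D.g a (algebraMap R A x) = _
  rw [g, RingHom.comp_apply, hq]
  refine (ConcreteCategory.congr_hom (Scheme.Hom.map_appLE (D.U a).ι (D.U a).ι_preimage_self.ge
    (homOfLE (le_top : D.U a ≤ ⊤)).op) _).trans ?_
  rw [CommRingCat.hom_comp, Scheme.Hom.comp_appTop, CommRingCat.hom_comp]
  simp only [ProjUP.toGlobal, RingHom.comp_apply]
  exact ConcreteCategory.congr_hom (Scheme.Hom.app_eq_appLE (f := (D.U a).ι) (U := ⊤)).symm _

end CoordData

end Groth.Agent.ProjUPX
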