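import Groth.Agent.ProjUPX.Iso
import Groth.Agent.ProjPt.Poly

/-!
# Morphisms to `Proj` of an algebra generated in degree one from generating sections
-/

universe u

open CategoryTheory CategoryTheory.Limits AlgebraicGeometry TopologicalSpace Opposite MvPolynomial

namespace Groth.Agent.ProjUPX

open Groth.Agent.AModX

variable {R A : Type u} [CommRing R] [CommRing A] [Algebra R A]
  (𝒜 : ℕ → Submodule R A) [GradedAlgebra 𝒜]

lemma aeval_mem {κ : Type*} {T : κ → A} (hT : ∀ i, T i ∈ 𝒜 1) {p : MvPolynomial κ R} {d : ℕ}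
    (hp : p.IsHomogeneous d) : aeval T p ∈ 𝒜 d := by
  rw [aeval_def, eval₂_eq]
  refine sum_mem fun e he => ?_
  rw [← Algebra.smul_def]
  refine Submodule.smul_mem _ _ ?_
  have hdeg : ∑ k ∈ e.support, e k • 1 = d := by
    have := hp (mem_support_iff.mp he)
    rw [Finsupp.weight_apply, Finsupp.sum] at this
    simpa using this
  rw [← hdeg]
  exact SetLike.prod_pow_mem_graded 𝒜 _ _ _ fun k _ => hT k

lemma exists_homogeneous_preimage {κ : Type*} {T : κ → A} (hT : ∀ i, T i ∈ 𝒜 1)
    (hgen : Algebra.adjoin R (Set.range T) = ⊤) {d : ℕ} {x : A} (hx : x ∈ 𝒜 d) :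
    ∃ p : MvPolynomial κ R, p.IsHomogeneous d ∧ aeval T p = x := by
  obtain ⟨p, hp⟩ : ∃ p : MvPolynomial κ R, aeval T p = x := by
    have : x ∈ (aeval (R := R) T).range := by
      rw [← Algebra.adjoin_range_eq_range_aeval, hgen]; trivial
    exact this
  refine ⟨homogeneousComponent d p, homogeneousComponent_isHomogeneous d p, ?_⟩
  have h := congrArg (GradedRing.proj 𝒜 d) hp
  rw [GradedRing.proj_apply, GradedRing.proj_apply, DirectSum.decompose_of_mem_same 𝒜 hx] at h
  rw [← h]
  conv_rhs => rw [← sum_homogeneousComponent p]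
  rw [map_sum, DirectSum.decompose_sum, DFinsupp.finsetSum_apply, AddSubmonoidClass.coe_finset_sum]
  symm
  rw [Finset.sum_eq_single d]
  · exact DirectSum.decompose_of_mem_same 𝒜 (aeval_mem 𝒜 hT (homogeneousComponent_isHomogeneous d p))
  · intro j _ hj
    exact DirectSum.decompose_of_mem_ne 𝒜 (aeval_mem 𝒜 hT (homogeneousComponent_isHomogeneous j p)) hj
  · intro hd
    rw [Finset.mem_range, not_lt] at hd
    rw [homogeneousComponent_eq_zero _ _ (by omega), map_zero, DirectSum.decompose_zero]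
    rfl

variable {X : Scheme.{u}}

theorem exists_map (q : X ⟶ Spec (CommRingCat.of R)) {L : X.Modules} (hL : PicF.IsInvertible L)
    (κ : Type u) (T : κ → A) (hT : ∀ i, T i ∈ 𝒜 1) (hgen : Algebra.adjoin R (Set.range T) = ⊤)
    (covT : ∀ y : Proj 𝒜, ∃ i, y ∈ Proj.basicOpen 𝒜 (T i))
    (s : κ → Γ(L, ⊤)) (hs : ProjUP.GeneratedBy L s)
    (hlift : ∀ (V : X.Opens) (v : κ → Γ(X, V)) (k : κ),
      InvX.IsFrame (res L (le_top : V ≤ ⊤) (s k)) →
      (∀ l, res L (le_top : V ≤ ⊤) (s l) = v l • res L (le_top : V ≤ ⊤) (s k)) →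
      ∃ f : A →+* Γ(X, V), (∀ l, f (T l) = v l) ∧
        ∀ x, f (algebraMap R A x) = resR (le_top : V ≤ ⊤) (ProjUP.toGlobal q x)) :
    ∃ (r : X ⟶ Proj 𝒜)
      (_ : r ≫ Proj.toSpecZero 𝒜 ≫ Spec.map (CommRingCat.ofHom (algebraMap R (𝒜 0))) = q)
      (τ : (Scheme.Modules.pullback r).obj (Twist.twist 𝒜 1) ≅ L),
      ∀ l, τ.hom.app ⊤ (ProjUP.pullSec r (Twist.twist 𝒜 1) (sec 𝒜 (hT l))) = s l := by
  let ι := Σ i : κ, {V : X.Opens // InvX.IsFrame (res L (le_top : V ≤ ⊤) (s i))}
  have hv := fun (a : ι) (l : κ) => a.2.2.exists_coord (le_refl a.2.1) (res L (le_top : a.2.1 ≤ ⊤) (s l))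
  choose v hv using hv
  simp only [res_self] at hv
  choose f hfT hfR using fun a : ι => hlift a.2.1 (v a) a.1 a.2.2 (hv a)
  let D : CoordData 𝒜 X L :=
    { κ := κ, T := T, hT := hT, covT := covT, s := s, ι := ι, U := fun a => a.2.1,
      cov := fun x => by
        obtain ⟨i, U, hx, hU⟩ := InvX.exists_frame_of_generated hL s x (hs x)
        exact ⟨⟨i, U, hU⟩, hx⟩
      k := fun a => a.1, frame := fun a => a.2.2, f := f
      hs := fun a l => by rw [hfT]; exact hv a l
      hc := fun a b W ha hb d x hx => by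
        obtain ⟨p, hp, rfl⟩ := exists_homogeneous_preimage 𝒜 hT hgen hx
        let c0 : R →+* Γ(X, W) := (resR (le_top : W ≤ ⊤)).comp (ProjUP.toGlobal q)
        have key : ∀ (e : ι) (he : W ≤ e.2.1), resR he (f e (aeval T p)) =
            eval₂Hom c0 (fun l => resR he (v e l)) p := by
          intro e he
          rw [aeval_def, show eval₂ (algebraMap R A) T p = eval₂Hom (algebraMap R A) T p from rfl,
            map_eval₂Hom, map_eval₂Hom]
          refine eval₂Hom_congr ?_ ?_ rfl
          · ext r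
            simp only [RingHom.comp_apply, hfR, resR_resR, c0]
          · funext l
            rw [hfT]
        rw [key a ha, key b hb, hfT]
        refine ProjPt.eval₂Hom_scale c0 _ _ _ (fun l => ?_) hp
        refine a.2.2.coord_unique ha ?_
        have e1 := congrArg (res L ha) (hv a l)
        have e2 := congrArg (res L hb) (hv b l)
        have e3 := congrArg (res L ha) (hv a b.1)
        rw [res_smul, res_res, res_res] at e1 e2 e3
        rw [res_res, ← e1, mul_comm, mul_smul, ← e3, ← e2] }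
  exact ⟨D.map, D.map_comp_eq q (fun a => hfR a), D.iso, fun l => D.toL_pullT l⟩

end Groth.Agent.ProjUPX
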