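import Groth.Agent.InvX.Frame
import Groth.Agent.PnCoh.TwistTriv
import Groth.Prelude.Def_ProjUP

/-!
# Degree one elements are frames of `O(1)` where they do not vanish
-/

universe u

open CategoryTheory AlgebraicGeometry TopologicalSpace Opposite HomogeneousLocalization

namespace Groth.Agent.ProjUPX

open Groth.Agent.AModX

variable {R A : Type u} [CommRing R] [CommRing A] [Algebra R A]
  (𝒜 : ℕ → Submodule R A) [GradedAlgebra 𝒜]

/-- A degree one element as a global section of `O(1)`. -/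
noncomputable def sec {a : A} (ha : a ∈ 𝒜 1) : Γ(Twist.twist 𝒜 1, ⊤) := Twist.globalOf 𝒜 ⟨a, ha⟩

lemma sec_apply {a : A} (ha : a ∈ 𝒜 1) {V : (Proj 𝒜).Opens} (x : V) :
    ((show Twist.sectN (𝒜 := 𝒜) 1 (op V) from res _ (le_top : V ≤ ⊤) (sec 𝒜 ha)).1 x).1 =
      (Localization.mk a 1 : Twist.Loc 𝒜 x.1) :=
  rfl

lemma loc_aux (p : Ideal A) [p.IsPrime] (a t : A) (ht : t ∉ p)
    (hle : Submonoid.powers t ≤ Submonoid.comap (RingHom.id A) p.primeCompl) :
    (Localization.mk a 1 : Localization.AtPrime p) =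
      IsLocalization.map (S := Localization.Away t) (Localization.AtPrime p) (RingHom.id A) hle
        (Localization.mk a ⟨t ^ 1, 1, rfl⟩) * Localization.mk t 1 := by
  rw [Localization.mk_eq_mk' (M := Submonoid.powers t), IsLocalization.map_mk',
    ← Localization.mk_eq_mk', Localization.mk_mul, Localization.mk_eq_mk_iff,
    Localization.r_iff_exists]
  exact ⟨1, by simp; ring⟩

lemma isFrame_sec {t : A} (ht : t ∈ 𝒜 1) :
    InvX.IsFrame (res (Twist.twist 𝒜 1) (le_top : Proj.basicOpen 𝒜 t ≤ ⊤) (sec 𝒜 ht)) := by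
  intro V hV
  have hU : PnCoh.NonVan (𝒜 := 𝒜) t V := fun x => hV x.2
  have h : (fun r : Γ(Proj 𝒜, V) => r • res (Twist.twist 𝒜 1) hV
      (res (Twist.twist 𝒜 1) (le_top : Proj.basicOpen 𝒜 t ≤ ⊤) (sec 𝒜 ht))) =
      fun r => (show Γ(Twist.twist 𝒜 1, V) from PnCoh.trivMap ht 1 hU r) := by
    funext r
    rw [res_res]
    refine Subtype.ext (funext fun x => Subtype.ext ?_)
    refine (Twist.coe_smul_val 1 x.1 _ _).trans (Eq.trans ?_ (PnCoh.trivMap_apply ht 1 hU r x).symm)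
    congr 1
    refine (sec_apply 𝒜 ht x).trans ?_
    simp [Localization.mk_eq_mk_iff, Localization.r_iff_exists]
  rw [h]
  exact PnCoh.trivMap_bijective ht 1 hU

lemma sec_eq_smul {a t : A} (ha : a ∈ 𝒜 1) (ht : t ∈ 𝒜 1) :
    res (Twist.twist 𝒜 1) (le_top : Proj.basicOpen 𝒜 t ≤ ⊤) (sec 𝒜 ha) =
      (Proj.awayToSection 𝒜 t).hom (Away.mk 𝒜 ht 1 a (by rwa [one_smul])) •
        res (Twist.twist 𝒜 1) (le_top : Proj.basicOpen 𝒜 t ≤ ⊤) (sec 𝒜 ht) := by
  refine Subtype.ext (funext fun x => Subtype.ext ?_)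
  refine (sec_apply 𝒜 ha x).trans (Eq.trans ?_ (Twist.coe_smul_val 1 x.1 _ _).symm)
  erw [sec_apply 𝒜 ht x, ProjectiveSpectrum.Proj.awayToSection_apply]
  rw [Away.val_mk]
  exact loc_aux _ a t x.2 _

end Groth.Agent.ProjUPX
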