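import Groth.Agent.ProjUPX.TwistFrame
import Groth.Agent.ProjPt.Sections

/-!
# Gluing a morphism to `Proj` from generating sections of an invertible module
-/

universe u

open CategoryTheory CategoryTheory.Limits AlgebraicGeometry TopologicalSpace Opposite HomogeneousLocalization

namespace Groth.Agent.ProjUPX

open Groth.Agent.AModX

variable {R A : Type u} [CommRing R] [CommRing A] [Algebra R A]
  (𝒜 : ℕ → Submodule R A) [GradedAlgebra 𝒜]

/-- Compatible coordinates on an open cover. -/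
structure CoordData (X : Scheme.{u}) (L : X.Modules) where
  κ : Type u
  T : κ → A
  hT : ∀ i, T i ∈ 𝒜 1
  covT : ∀ y : Proj 𝒜, ∃ i, y ∈ Proj.basicOpen 𝒜 (T i)
  s : κ → Γ(L, ⊤)
  ι : Type u
  U : ι → X.Opens
  cov : ∀ x, ∃ a, x ∈ U a
  k : ι → κ
  frame : ∀ a, InvX.IsFrame (res L (le_top : U a ≤ ⊤) (s (k a)))
  f : ∀ a, A →+* Γ(X, U a)
  hs : ∀ a l, res L (le_top : U a ≤ ⊤) (s l) = f a (T l) • res L (le_top : U a ≤ ⊤) (s (k a))
  hc : ∀ (a b : ι) (W : X.Opens) (ha : W ≤ U a) (hb : W ≤ U b) (d : ℕ) (x : A), x ∈ 𝒜 d →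
    resR ha (f a x) = resR ha (f a (T (k b))) ^ d * resR hb (f b x)

namespace CoordData

variable {𝒜} {X : Scheme.{u}} {L : X.Modules} (D : CoordData 𝒜 X L)

lemma f_self (a : D.ι) : D.f a (D.T (D.k a)) = 1 :=
  (D.frame a).coord_unique le_rfl (by rw [res_self, one_smul, ← D.hs])

/-- The coordinates on a piece, as a scheme. -/
noncomputable def g (a : D.ι) : A →+* Γ((D.U a).toScheme, ⊤) :=
  ((D.U a).ι.appLE (D.U a) ⊤ (D.U a).ι_preimage_self.ge).hom.comp (D.f a)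

lemma isUnit_g (a : D.ι) : IsUnit (D.g a (D.T (D.k a))) := by
  rw [g, RingHom.comp_apply, f_self, map_one]; exact isUnit_one

/-- The morphism on a piece. -/
noncomputable def chart (a : D.ι) : (D.U a).toScheme ⟶ Proj 𝒜 :=
  ProjPt.pt 𝒜 (D.g a) (D.hT (D.k a)) one_pos (D.isUnit_g a)

lemma comp_g {Z : Scheme.{u}} {a : D.ι} (h : Z ⟶ (D.U a).toScheme) (x : A)
    (e : (⊤ : Z.Opens) ≤ (h ≫ (D.U a).ι) ⁻¹ᵁ D.U a) :
    h.appTop (D.g a x) = (h ≫ (D.U a).ι).appLE (D.U a) ⊤ e (D.f a x) := by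
  have h1 := Scheme.Hom.appLE_comp_appLE h (D.U a).ι (D.U a) ⊤ ⊤ (D.U a).ι_preimage_self.ge le_top
  rw [show h.appLE ⊤ ⊤ le_top = h.appTop from (h.app_eq_appLE (U := ⊤)).symm] at h1
  exact ConcreteCategory.congr_hom h1 (D.f a x)

lemma chart_compat {Z : Scheme.{u}} (a b : D.ι) (h₁ : Z ⟶ (D.U a).toScheme)
    (h₂ : Z ⟶ (D.U b).toScheme) (h : h₁ ≫ (D.U a).ι = h₂ ≫ (D.U b).ι) :
    h₁ ≫ D.chart a = h₂ ≫ D.chart b := by
  let m := h₁ ≫ (D.U a).ι
  have hm : ∀ z, m z ∈ D.U a ⊓ D.U b := fun z => by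
    refine ⟨(h₁ z).2, ?_⟩
    rw [show m = h₂ ≫ (D.U b).ι from h]
    exact (h₂ z).2
  let W := D.U a ⊓ D.U b
  have eW : (⊤ : Z.Opens) ≤ m ⁻¹ᵁ W := fun z _ => hm z
  let ev := (m.appLE W ⊤ eW).hom
  have k1 : ∀ x, h₁.appTop (D.g a x) = ev (resR (inf_le_left : W ≤ D.U a) (D.f a x)) := fun x => by
    rw [D.comp_g h₁ x (fun z _ => (h₁ z).2)]
    exact (ConcreteCategory.congr_hom (Scheme.Hom.map_appLE m eW
      (homOfLE (inf_le_left : W ≤ D.U a)).op) (D.f a x)).symm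
  have k2 : ∀ x, h₂.appTop (D.g b x) = ev (resR (inf_le_right : W ≤ D.U b) (D.f b x)) := fun x => by
    rw [D.comp_g h₂ x (fun z _ => (h₂ z).2)]
    refine Eq.trans ?_ (ConcreteCategory.congr_hom (Scheme.Hom.map_appLE m eW
      (homOfLE (inf_le_right : W ≤ D.U b)).op) (D.f b x)).symm
    simp only [m, h]
  let c := ev (resR (inf_le_left : W ≤ D.U a) (D.f a (D.T (D.k b))))
  have hsc : ∀ (d : ℕ) (x : A), x ∈ 𝒜 d →
      h₁.appTop.hom.comp (D.g a) x = c ^ d * h₂.appTop.hom.comp (D.g b) x := fun d x hx => by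
    rw [RingHom.comp_apply, RingHom.comp_apply]
    erw [k1, k2]
    rw [D.hc a b W inf_le_left inf_le_right d x hx, map_mul, map_pow]
  have hu2 : IsUnit (h₂.appTop.hom.comp (D.g b) (D.T (D.k a))) := by
    have h1 : h₁.appTop.hom.comp (D.g a) (D.T (D.k a)) = 1 := by
      rw [RingHom.comp_apply, g, RingHom.comp_apply, f_self, map_one, map_one]
    rw [hsc 1 _ (D.hT _), mul_comm] at h1
    exact .of_mul_eq_one _ h1
  rw [chart, chart, ProjPt.comp_pt, ProjPt.comp_pt,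
    ProjPt.pt_scale 𝒜 _ _ (D.hT (D.k a)) one_pos c hsc hu2 ((D.isUnit_g a).map h₁.appTop.hom),
    ProjPt.pt_indep 𝒜 _ (D.hT (D.k a)) one_pos hu2 (D.hT (D.k b)) one_pos
      ((D.isUnit_g b).map h₂.appTop.hom)]

/-- The cover by the pieces. -/
noncomputable def cover : X.OpenCover :=
  X.openCoverOfIsOpenCover D.U (IsOpenCover.mk (eq_top_iff.2 fun x _ => Opens.mem_iSup.2 (D.cov x)))

/-- The glued morphism. -/
noncomputable def map : X ⟶ Proj 𝒜 :=
  D.cover.glueMorphisms D.chart fun a b => D.chart_compat a b _ _ pullback.condition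

lemma ι_map (a : D.ι) : (D.U a).ι ≫ D.map = D.chart a :=
  Scheme.Cover.ι_glueMorphisms D.cover _ _ a

lemma le_preimage (a : D.ι) : D.U a ≤ D.map ⁻¹ᵁ Proj.basicOpen 𝒜 (D.T (D.k a)) := fun x hx => by
  have h : (⊤ : (D.U a).toScheme.Opens) ≤
      D.chart a ⁻¹ᵁ Proj.basicOpen 𝒜 (D.T (D.k a)) := by
    rw [chart, ProjPt.pt_preimage_basicOpen 𝒜 _ _ one_pos _ (D.hT _) one_pos,
      (D.U a).toScheme.basicOpen_of_isUnit (D.isUnit_g a)]
  have := h (show (⟨x, hx⟩ : D.U a) ∈ (⊤ : (D.U a).toScheme.Opens) from trivial)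
  rw [← D.ι_map] at this
  exact this

/-- The ratio of two degree one elements, pulled back. -/
noncomputable def ratio (i l : D.κ) {W : X.Opens}
    (h : W ≤ D.map ⁻¹ᵁ Proj.basicOpen 𝒜 (D.T i)) : Γ(X, W) :=
  D.map.appLE (Proj.basicOpen 𝒜 (D.T i)) W h
    ((Proj.awayToSection 𝒜 (D.T i)).hom
      (Away.mk 𝒜 (D.hT i) 1 (D.T l) (by rw [one_smul]; exact D.hT l)))

lemma res_ratio (i l : D.κ) {W W' : X.Opens} (h' : W' ≤ W)
    (h : W ≤ D.map ⁻¹ᵁ Proj.basicOpen 𝒜 (D.T i)) :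
    resR h' (D.ratio i l h) = D.ratio i l (h'.trans h) :=
  ConcreteCategory.congr_hom (Scheme.Hom.appLE_map D.map h (homOfLE h').op) _

lemma ratio_mul (a : D.ι) (i l : D.κ) {W : X.Opens} (ha : W ≤ D.U a)
    (h : W ≤ D.map ⁻¹ᵁ Proj.basicOpen 𝒜 (D.T i)) :
    resR ha (D.f a (D.T l)) = D.ratio i l h * resR ha (D.f a (D.T i)) := by
  let j := X.homOfLE ha
  let ev := (W.ι.appLE W ⊤ W.ι_preimage_self.ge).hom
  have hev : Function.Injective ev := by
    have hiso : IsIso (W.ι.appLE W ⊤ W.ι_preimage_self.ge) := by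
      rw [Scheme.Opens.ι_appLE]
      show IsIso (X.presheaf.map (homOfLE W.ι_image_top.le).op)
      rw [show homOfLE W.ι_image_top.le = eqToHom W.ι_image_top from Subsingleton.elim _ _]
      infer_instance
    exact ((ConcreteCategory.isIso_iff_bijective _).1 hiso).1
  have hj : j ≫ (D.U a).ι = W.ι := X.homOfLE_ι ha
  let f' := j.appTop.hom.comp (D.g a)
  have hf' : ∀ x, f' x = ev (resR ha (D.f a x)) := fun x => by
    refine (D.comp_g j x (fun z _ => (j z).2)).trans ?_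
    refine Eq.trans ?_ (ConcreteCategory.congr_hom (Scheme.Hom.map_appLE W.ι
      W.ι_preimage_self.ge (homOfLE ha).op) (D.f a x)).symm
    simp only [hj]
  have hWr : W.ι ≫ D.map = ProjPt.pt 𝒜 f' (D.hT (D.k a)) one_pos ((D.isUnit_g a).map j.appTop.hom) := by
    rw [← hj, Category.assoc, ι_map, chart, ProjPt.comp_pt]
  have htop : (⊤ : W.toScheme.Opens) ≤ (W.ι ≫ D.map) ⁻¹ᵁ Proj.basicOpen 𝒜 (D.T i) :=
    fun z _ => h z.2
  have hu : IsUnit (f' (D.T i)) := by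
    rw [hWr, ProjPt.pt_preimage_basicOpen 𝒜 _ _ one_pos _ (D.hT i) one_pos] at htop
    have := RingedSpace.isUnit_res_basicOpen W.toScheme.toRingedSpace (f' (D.T i))
    exact isUnit_of_top_le W.toScheme (f' (D.T i)) htop
  have hWr' : W.ι ≫ D.map = ProjPt.pt 𝒜 f' (D.hT i) one_pos hu :=
    hWr.trans (ProjPt.pt_indep 𝒜 f' _ _ _ _ _ _)
  have h2 : ev (D.ratio i l h) = ProjPt.coordHom 𝒜 f' hu
      (Away.mk 𝒜 (D.hT i) 1 (D.T l) (by rw [one_smul]; exact D.hT l)) := by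
    rw [← ProjPt.pt_appLE 𝒜 f' (D.hT i) one_pos hu (hWr' ▸ htop)]
    simp only [← hWr']
    exact ConcreteCategory.congr_hom (Scheme.Hom.appLE_comp_appLE W.ι D.map
      (Proj.basicOpen 𝒜 (D.T i)) W ⊤ h W.ι_preimage_self.ge) _
  apply hev
  rw [map_mul, h2, ← hf', ← hf']
  have h3 := ProjPt.coordHom_mk_mul 𝒜 f' hu (D.hT i) 1 (D.T l) (by rw [one_smul]; exact D.hT l)
  rw [pow_one] at h3
  exact h3.symm
where
  isUnit_of_top_le (Z : Scheme.{u}) (y : Γ(Z, ⊤)) (hy : ⊤ ≤ Z.basicOpen y) : IsUnit y := by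
    have h1 := AModX.isUnit_resR (le_refl (⊤ : Z.Opens)) y hy
    rwa [resR_self] at h1

lemma ratio_eq (a : D.ι) (l : D.κ) {W : X.Opens} (ha : W ≤ D.U a) :
    D.ratio (D.k a) l (ha.trans (D.le_preimage a)) = resR ha (D.f a (D.T l)) := by
  rw [D.ratio_mul a (D.k a) l ha (ha.trans (D.le_preimage a)), f_self, map_one, mul_one]

lemma res_s (i l : D.κ) {W : X.Opens} (h : W ≤ D.map ⁻¹ᵁ Proj.basicOpen 𝒜 (D.T i)) :
    res L (le_top : W ≤ ⊤) (D.s l) = D.ratio i l h • res L (le_top : W ≤ ⊤) (D.s i) := by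
  refine eq_of_locally _ _ fun p hp => ?_
  obtain ⟨a, ha⟩ := D.cov p
  refine ⟨W ⊓ D.U a, inf_le_left, ⟨hp, ha⟩, ?_⟩
  have e : ∀ l', res L (le_top : W ⊓ D.U a ≤ ⊤) (D.s l') =
      resR inf_le_right (D.f a (D.T l')) • res L le_top (D.s (D.k a)) := fun l' => by
    rw [← res_res (h := (le_top : D.U a ≤ ⊤)) (h' := inf_le_right), D.hs a l', res_smul, res_res]
  rw [res_smul, res_res, res_res, D.res_ratio, e l, e i, D.ratio_mul a i l inf_le_right, mul_smul]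

end CoordData

end Groth.Agent.ProjUPX
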